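import Cfsg.Agent.Leech.Mult.Suz.SuzP3W
import Cfsg.Agent.Schur.PrimeCertLit

/-!
Certificate data for the prime 3 in a sixfold cover.
-/

set_option autoImplicit false
set_option maxRecDepth 20000
set_option maxHeartbeats 4000000

namespace Cfsg.Lib.Leech.Mult.SuzP3

open Cfsg.Lib.Leech.Stab
open Cfsg.Lib.Schur.Prime (Cert)

/-- Keys of the fixed vectors. -/
def fixed : List ℕ := []

/-- The certificate. -/
def cert : Cert where
  p := 3
  n := 8
  tails := [
    [[3, 3, 4, 5, 5, 7]],
    [[0, 1, 2, 2, 3, 4, 5, 6, 6], []],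
    [[0, 2, 3, 4, 4, 6, 6, 7, 7], [1, 2, 3, 3, 4, 5, 5, 7, 7], []],
    [[0, 3, 5, 7, 7], [1, 3, 6], [2, 3, 6], []],
    [[0, 4, 5, 6], [1, 4, 7, 7], [2, 4, 6, 6, 7, 7], [3, 4, 6, 6, 7], []],
    [[0, 5, 6, 7], [1, 5, 6, 6, 7, 7], [2, 5, 6, 7, 7], [3, 5, 6, 6, 7], [4, 5, 6, 6, 7], []],
    [[0, 6], [1, 6], [2, 6], [3, 6], [4, 6], [5, 6], []],
    [[0, 7], [1, 7], [2, 7], [3, 7], [4, 7], [5, 7], [6, 7], []]]
  overlaps := [([0, 0, 0, 0], 1), ([1, 0, 0, 0], 1), ([2, 2, 2, 0], 2), ([2, 1, 0], 1), ([3, 0, 0, 0], 1), ([3, 1, 1, 1], 1), ([3, 1, 0], 1), ([3, 2, 0], 1), ([4, 4, 4, 0], 2), ([4, 1, 1, 1], 1), ([4, 1, 0], 1), ([4, 2, 1], 1), ([4, 3, 0], 1), ([4, 3, 1], 1), ([5, 1, 0], 1), ([5, 4, 0], 1), ([6, 0, 0, 0], 1), ([6, 1, 0], 1), ([6, 4, 0], 1), ([6, 5, 0], 1), ([7, 0, 0, 0], 1), ([7, 1, 0], 1), ([7, 4, 0], 1)]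
  fuse := [
    ([[1, 2, 5], [3, 5], [4], [6], [7]],
      [[0, 1, 2, 2, 3, 4, 5, 5, 6, 7], [0, 0, 1, 1, 6], [0, 0, 1, 1, 3, 4, 4, 5, 6, 6, 7, 7], [3, 4, 4, 5, 6, 6, 7, 7], [0, 0, 1, 1, 2, 3, 3, 4, 4, 7, 7]],
      [([0, 0, 0], []), ([1, 0], [0, 1]), ([1, 1, 1], []), ([3, 0], [0, 3]), ([3, 1], [1, 3]), ([4, 0], [0, 4]), ([4, 1], [1, 4]), ([4, 4, 4], [])])]
  delta := [
    [],
    [],
    [],
    [(8, 2), (16, 1), (17, 2)],
    [(0, 1), (8, 2), (16, 1), (17, 2), (24, 1)],
    [(0, 2), (17, 1), (24, 1)],
    [(16, 2), (17, 2), (24, 2)],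
    [(0, 2), (17, 1)]]
  sels := [
    [[]],
    [[], [(0, 2), (1, 2), (3, 1), (4, 1), (5, 2), (6, 1), (7, 1), (8, 2), (9, 1), (11, 1), (12, 1), (14, 2), (15, 2), (16, 1), (18, 1), (19, 1), (20, 2), (21, 1), (22, 2), (23, 1), (25, 1), (26, 2)]],
    [[], [], [(1, 1), (2, 2), (3, 1), (5, 2), (6, 1), (8, 1), (9, 2), (11, 1), (12, 1), (14, 2), (15, 1), (18, 2), (20, 2), (21, 2), (25, 2), (27, 2), (30, 1)]],
    [[], [(0, 2), (1, 1), (2, 1), (5, 1), (6, 1), (7, 2), (9, 2), (10, 2), (11, 2), (12, 2), (13, 1), (14, 2), (15, 1), (16, 1), (17, 1), (18, 1), (20, 1), (21, 2), (25, 1), (26, 1), (27, 2), (28, 2), (30, 2)], [(0, 2), (1, 1), (2, 2), (3, 2), (5, 2), (8, 2), (9, 2), (10, 1), (11, 2), (12, 1), (13, 2), (14, 2), (15, 2), (16, 1), (17, 1), (18, 2), (19, 2), (20, 2), (21, 2), (24, 2), (25, 1), (26, 2), (29, 1), (30, 2)], [(1, 1), (2, 1), (3, 2), (4, 2), (5, 1), (8, 1), (10, 2), (11, 2), (12, 2), (13, 2), (14, 1), (15, 2), (16, 1), (17, 2), (19, 1), (20, 1), (21, 2), (25, 1), (30, 2)]],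
    [[(0, 2), (2, 2), (4, 2), (5, 1), (6, 1), (7, 1), (8, 1), (9, 1), (10, 2), (12, 2), (13, 1), (15, 2), (17, 1), (18, 1), (19, 2), (20, 2), (21, 2), (22, 1), (23, 2), (27, 2), (28, 2), (29, 1)], [(1, 1), (2, 2), (4, 1), (5, 1), (6, 1), (7, 2), (9, 1), (10, 2), (12, 2), (13, 1), (15, 2), (16, 1), (17, 2), (18, 2), (19, 2), (22, 1), (23, 1), (25, 1), (27, 2), (28, 2), (29, 1), (30, 2)], [(0, 2), (2, 1), (4, 2), (5, 1), (7, 2), (9, 2), (10, 1), (12, 2), (13, 1), (14, 2), (17, 2), (19, 1), (20, 1), (21, 2), (22, 2), (23, 1), (26, 2), (27, 1), (29, 1)], [(1, 1), (2, 1), (3, 2), (6, 2), (8, 1), (9, 1), (10, 1), (11, 2), (12, 1), (13, 1), (14, 2), (15, 1), (16, 2), (17, 2), (18, 1), (20, 1), (21, 1), (23, 2), (24, 2), (25, 1), (27, 2), (30, 2)], [(1, 1), (2, 2), (3, 2), (4, 2), (5, 2), (8, 1), (9, 1), (10, 2), (11, 2), (12, 2), (13, 2), (14, 1), (15, 2), (16, 2), (17, 2), (18, 1), (19, 2), (20, 1), (21, 2), (25, 1), (30, 2)]],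
    [[(0, 1), (2, 2), (3, 2), (4, 1), (7, 2), (10, 2), (11, 2), (13, 1), (15, 1), (17, 1), (19, 1), (21, 2), (22, 2), (23, 2), (26, 2), (28, 2), (29, 1)], [(0, 2), (2, 1), (4, 2), (5, 1), (6, 2), (7, 1), (9, 1), (10, 1), (11, 1), (12, 2), (13, 2), (14, 1), (15, 2), (16, 1), (17, 2), (18, 1), (19, 1), (23, 1), (27, 2), (29, 1)], [(1, 2), (2, 2), (3, 1), (4, 1), (6, 2), (10, 1), (11, 1), (12, 2), (15, 2), (17, 2), (20, 1), (22, 2), (23, 1), (24, 1), (25, 2), (26, 2), (30, 1)], [(1, 1), (2, 1), (3, 2), (4, 1), (5, 2), (6, 1), (7, 2), (8, 2), (9, 1), (10, 2), (11, 2), (12, 2), (15, 1), (16, 1), (17, 1), (19, 1), (20, 2), (21, 1), (23, 2), (24, 2), (25, 1), (26, 1), (30, 2)], [(1, 1), (2, 1), (3, 2), (4, 1), (5, 2), (6, 1), (7, 2), (8, 2), (9, 1), (10, 2), (11, 2), (16, 2), (17, 1), (18, 1), (19, 2), (20, 2), (21, 1), (22, 2), (23, 2), (24, 2), (25, 1), (26, 1), (30, 2)], [(4, 1), (7, 2), (9, 1), (11, 1), (12, 1), (14, 2), (16, 1), (17, 2), (18, 2), (21, 1)]],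
    [[(5, 1), (6, 1), (7, 2), (10, 2), (11, 2), (12, 1), (13, 1), (15, 1), (17, 2), (18, 1), (19, 1), (21, 2), (22, 2), (26, 2), (27, 2)], [(5, 2), (6, 2), (10, 1), (12, 1), (14, 2), (15, 2), (16, 2), (18, 1), (19, 2), (20, 2), (21, 1), (22, 1), (26, 1), (27, 1)], [(3, 2), (5, 1), (6, 1), (7, 1), (8, 1), (9, 1), (10, 1), (11, 1), (12, 2), (13, 2), (14, 2), (15, 2), (17, 1), (18, 2), (20, 2), (21, 2), (22, 2), (27, 2)], [(3, 1), (5, 2), (6, 2), (7, 2), (8, 2), (9, 2), (10, 2), (11, 2), (12, 1), (13, 1), (14, 1), (15, 1), (16, 2), (18, 2), (19, 1), (20, 1), (21, 1), (22, 1), (27, 1)], [(3, 1), (5, 2), (6, 2), (7, 2), (8, 2), (9, 2), (10, 2), (11, 2), (12, 1), (13, 1), (14, 1), (15, 1), (16, 1), (18, 1), (19, 2), (20, 1), (21, 1), (22, 1), (27, 1)], [(18, 2)], [(5, 1)]],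
    [[(3, 2), (4, 2), (5, 2), (6, 2), (7, 1), (9, 1), (11, 2), (12, 2), (15, 1), (16, 1), (20, 2), (22, 1), (26, 2), (27, 1)], [(3, 1), (4, 1), (5, 1), (6, 1), (7, 1), (9, 2), (13, 2), (14, 2), (16, 1), (17, 2), (20, 2), (22, 2), (26, 1), (27, 2)], [(3, 2), (4, 1), (5, 1), (6, 1), (8, 2), (9, 1), (10, 1), (11, 2), (13, 2), (14, 1), (15, 2), (17, 2), (19, 1), (21, 1), (27, 2)], [(3, 1), (4, 2), (5, 2), (6, 2), (8, 1), (9, 2), (10, 2), (11, 1), (13, 1), (14, 2), (15, 1), (17, 1), (19, 2), (20, 2), (22, 1), (27, 1)], [(3, 1), (4, 2), (5, 2), (6, 2), (8, 1), (9, 2), (10, 2), (11, 1), (13, 1), (14, 2), (15, 1), (17, 1), (19, 1), (20, 1), (27, 1)], [(19, 2), (22, 2)], [(19, 1)], [(9, 2)]]]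

/-- Words of the generators. -/
def pcw : List (List Atom) := SuzP3W.pcid.map fun i => SuzP3W.ws.getD i []

/-- Words of the conjugating elements. -/
def fw : List (List Atom) := SuzP3W.fid.map fun i => SuzP3W.ws.getD i []

/-- Small stable sets of vectors. -/
def orbs : List (List ℕ) := [
  [643177451201901408405727335589330483, 643177451199483482977199613776807473, 643177453675365996448442467824879153, 728928866950242286043963172031350255, 726335333207571398414688102661998063, 643174836672614067029697748400651825, 686050621340132679637316623953050128, 643261036910936105640407466295936561, 728931402331305117064792465307385329, 726332797828926492822386531198485999, 643174836670196141601170026588128815, 686050621337714754208788902140527118, 685974643928372326967749322364961298, 686050623813592397883711480513774094, 769213573870756698532224661944025554, 643174839146078655072412880636200495, 686050623813597267680031756188598798, 686053159192242173272333327652110862, 645771064329968439545914014505088561, 769211038489693867511395368667990480,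 686055694336133371137451305294383634, 686055615187908860782251011381740050, 726254124183763083187794765489423855, 686053159189821888970981146523877904, 643177374524723560664714452099712559, 645771064327550514117386292692565551, 645771066803433027588629146740637231, 688649307464200402277637984210141712, 645854731822910389198264626958550575, 683375881049531120456070795784370704, 686050623816010323312239202326297104, 686050626366846163882277758248174096, 769129988081932823341693385738568144, 643258422381648764264377879107257903, 686134207049167376871996754659656206, 686058229717196202158280598570418708, 685972029399084985591719735176282640, 726256659564825914208624058765458929, 686050623811176983378679575060365840, 645854650039003136780594145211694639, 688651842845263233298467277486176786, 645852196444265483605963055495038511, 683375881047113195027543073971847694, 643179989054010902040744039288391217, 686134209525045020546919333032903182, 726332797906297745349709954884814321, 728847814066603598199338610728680943,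 728931399855427473389869886934138353, 726332795353043979351143677150414319, 643174839223449907599736304322528817, 728931399853007189088517705805905395, 688568257056439358107936001280719376, 688732972486095689315801186240578066, 683375883522995708498785928019919374, 686050626289474911354954334561845774, 686053079806846029761421718105704976, 645773602182077933180930718204149295, 686053161668119816947255906025357838, 645852193970800895563247923259489841, 726332795355461904779671398962937329, 728928864471944358067688412529870321, 728928864474364642369040593658103279, 645771066880804280115952570426965553, 645852193968382970134720201446966831, 686050621335294469907436721012294160, 683378418901640614091087499483431438, 688730437105032858294971892964542992, 686050621337712395335964442824817170, 726416381064496602014351529669543407, 643177453752737248975765891511207475, 683375883600366961026109351706247696, 728847814064183313897986429600447985, 688649386697271814125269910035120656, 683459466758565817690750926490976782,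 645852196521636736133286479181366833, 726173073776002039018092782560001519, 686050623888548235906002998746694162, 645935779679835592797928053966095919, 686134207046747092570644573531423248, 686050623890968520207355179874927120, 728847816542481241874261189101927919],
  [643255968861788958721367757217515055, 728850351841266207802696598533228015, 685969573403342666577466759238468112, 728933935079254242423189318816808433, 686053156641330701197959479522048530, 643258501689598023743630772759150127, 686050623813521636175696463980413458, 728931402251445177400926303275173361, 643174918451609989123138052475569709],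
  [643255968861788958721367757217515055, 685969573403342666577466759238468112, 728933935079254242423189318816808433],
  [643255968864280004735238554506479149, 688651842767894339648471912742928912, 683457010762899130185336842388718094, 602976409375817836667561185557037648, 686050621337714754213292501767897618, 771807186919034551721063794988302800, 726256659485036736257276512893978097, 685969494175180226172233352514976272, 686053238345300023565596848458056210],
  [643255968861788958721367757217515055],
  [643177451201901408405727335589330483, 686050621340132679637316623953050128, 686050623816010323312239202326297104],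
  [728847734838289970659831751261079025],
  [686053159114795289240674611757597208]]

/-- The equations. -/
def eqsLit : List (Bool × Cfsg.Lib.Schur.Prime.Form) := [
  (true, [(24, 2), (32, 1), (40, 2), (43, 1), (44, 2), (45, 1), (52, 2), (53, 1), (56, 1), (59, 2), (60, 2), (61, 2), (62, 1)]),
  (true, [(18, 2), (24, 2), (25, 2), (26, 1), (27, 2), (32, 1), (33, 1), (34, 2), (35, 1), (40, 2), (41, 2), (43, 2), (44, 2), (45, 2), (48, 1), (51, 1), (52, 2), (53, 1), (54, 1), (56, 1), (57, 1), (59, 1), (60, 1), (61, 2), (63, 2)]),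
  (true, [(27, 2), (36, 1), (51, 2), (52, 1), (54, 2), (62, 1), (63, 1)]),
  (true, [(24, 2), (25, 2), (26, 1), (32, 1), (33, 1), (34, 1), (40, 2), (44, 2), (45, 1), (49, 1), (50, 2), (51, 1), (52, 2), (53, 2), (54, 1), (56, 2), (57, 1), (58, 2), (59, 2), (61, 2), (63, 1)]),
  (true, [(35, 1), (43, 2), (45, 1), (48, 1), (53, 1), (56, 1), (59, 1), (61, 1), (62, 2), (63, 1)]),
  (true, [(54, 1)]),
  (true, [(26, 1), (35, 1), (41, 2), (42, 1), (44, 2), (48, 1), (50, 1), (51, 1), (54, 1), (57, 1), (58, 2), (59, 1), (61, 2), (63, 1)]),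
  (true, [(35, 2), (42, 2), (43, 2), (44, 1), (48, 1), (52, 1), (53, 2), (54, 2), (58, 1), (59, 1), (60, 2), (61, 1), (62, 1), (63, 2)]),
  (true, [(45, 2), (52, 1), (53, 2), (60, 2), (61, 1), (63, 2)]),
  (true, [(63, 2)]),
  (true, [(34, 1), (35, 2), (41, 2), (42, 1), (43, 2), (49, 2), (52, 1), (53, 1), (54, 2), (56, 2), (60, 1), (63, 2)]),
  (true, [(35, 1), (44, 2), (49, 2), (53, 2), (57, 2), (58, 1), (60, 2), (61, 1), (62, 2)]),
  (true, [(43, 2), (44, 1), (48, 2), (51, 2), (53, 1), (56, 1), (60, 2), (62, 2)]),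
  (true, [(49, 2), (52, 1), (57, 1), (59, 1), (62, 1)]),
  (true, [(42, 1), (43, 2), (44, 2), (48, 2), (49, 2), (50, 2), (51, 1), (52, 2), (53, 2), (54, 1), (56, 2), (57, 2), (58, 1), (59, 2), (60, 1), (62, 1), (63, 1)]),
  (true, [(48, 2), (52, 2), (53, 1), (56, 1), (60, 2), (61, 1), (62, 2)]),
  (true, [(51, 1), (52, 2), (53, 1), (62, 1)]),
  (true, [(50, 1), (51, 2), (52, 2), (53, 2)]),
  (true, [(53, 2)]),
  (true, [(62, 1)]),
  (true, [(59, 1), (60, 2), (61, 1)]),
  (true, [(58, 1), (59, 2), (60, 2), (61, 2), (62, 1)]),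
  (true, [(61, 2), (62, 2)]),
  (true, [(0, 2), (16, 1), (17, 2), (24, 1), (25, 2), (26, 1), (27, 2), (34, 2), (35, 2), (36, 2), (40, 1), (41, 2), (42, 2), (43, 2), (45, 1), (49, 2), (50, 2), (51, 1), (52, 2), (53, 1), (54, 1), (56, 2), (57, 2), (58, 2), (59, 2), (60, 1), (62, 2), (63, 2)]),
  (true, [(24, 2), (26, 1), (27, 2), (32, 1), (33, 1), (35, 1), (36, 1), (40, 1), (41, 2), (43, 1), (44, 2), (45, 2), (48, 2), (50, 2), (51, 2), (53, 1), (54, 1), (56, 1), (57, 2), (58, 2), (60, 1), (61, 2), (62, 1), (63, 1)]),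
  (true, [(0, 1), (9, 1), (16, 2), (17, 1), (18, 2), (26, 2), (32, 2), (33, 1), (34, 1), (35, 2), (36, 1), (43, 1), (44, 1), (45, 1), (48, 1), (49, 2), (51, 1), (54, 1), (57, 1), (59, 2), (63, 1)]),
  (true, [(24, 2), (25, 2), (26, 1), (32, 1), (33, 1), (34, 2), (35, 2), (40, 2), (41, 2), (42, 1), (43, 1), (45, 2), (48, 1), (49, 2), (51, 2), (52, 1), (53, 2), (56, 1), (57, 1), (58, 2), (59, 2), (60, 2), (63, 2)]),
  (true, [(24, 1), (25, 1), (32, 2), (33, 2), (40, 1), (41, 1), (45, 1), (48, 2), (49, 2), (51, 2), (52, 1), (53, 1), (54, 1), (56, 2), (57, 2), (60, 1), (63, 1)]),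
  (true, [(16, 2), (17, 2), (25, 2), (27, 1), (32, 2), (35, 2), (40, 1), (42, 1), (43, 2), (49, 1), (50, 1), (51, 1), (52, 1), (56, 2), (57, 2), (59, 1), (63, 2)]),
  (true, [(16, 1), (17, 1), (24, 1), (25, 2), (27, 2), (33, 2), (35, 1), (40, 2), (42, 1), (45, 2), (48, 2), (49, 2), (50, 1), (51, 2), (52, 2), (53, 2), (54, 2), (57, 1), (61, 1), (62, 2), (63, 2)]),
  (true, [(0, 1), (9, 1), (16, 2), (17, 1), (18, 1), (26, 2), (32, 2), (33, 1), (34, 1), (35, 2), (36, 2), (43, 2), (48, 2), (50, 2), (51, 1), (53, 2), (56, 2)])]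

theorem eqs_lit : (cert.eqs == eqsLit) = true := by decide +kernel

theorem base_ok : (Nat.blt 1 cert.p && eqsLit.all (·.1) && cert.shapesOK) = true := by decide +kernel

theorem sel0 : cert.rowOK eqsLit 0 = true := by decide +kernel

theorem sel1 : cert.rowOK eqsLit 1 = true := by decide +kernel

theorem sel2 : cert.rowOK eqsLit 2 = true := by decide +kernel

theorem sel3 : cert.rowOK eqsLit 3 = true := by decide +kernel

theorem sel4 : cert.rowOK eqsLit 4 = true := by decide +kernel

theorem sel5 : cert.rowOK eqsLit 5 = true := by decide +kernel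

theorem sel6 : cert.rowOK eqsLit 6 = true := by decide +kernel

theorem sel7 : cert.rowOK eqsLit 7 = true := by decide +kernel

theorem cert_ok : cert.ok = true :=
  Cert.ok_of_lit cert eqs_lit base_ok fun j hj => match j, hj with
    | 0, _ => sel0
    | 1, _ => sel1
    | 2, _ => sel2
    | 3, _ => sel3
    | 4, _ => sel4
    | 5, _ => sel5
    | 6, _ => sel6
    | 7, _ => sel7
    | _ + 8, h => absurd (show _ < 8 from h) (by omega)

theorem pcw_ok : wordsOK fixed pcw = true ∧ wordsOK fixed fw = true := by decide +kernel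

theorem row0 : ruleRow cert pcw 0 = true := by decide +kernel

theorem row1 : ruleRow cert pcw 1 = true := by decide +kernel

theorem row2 : ruleRow cert pcw 2 = true := by decide +kernel

theorem row3 : ruleRow cert pcw 3 = true := by decide +kernel

theorem row4 : ruleRow cert pcw 4 = true := by decide +kernel

theorem row5 : ruleRow cert pcw 5 = true := by decide +kernel

theorem row6 : ruleRow cert pcw 6 = true := by decide +kernel

theorem row7 : ruleRow cert pcw 7 = true := by decide +kernel

theorem fus_ok : fusOK cert pcw fw = true := by decide +kernel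

theorem orbs_ok : (List.range 8).all (fun k => orbOK 8 pcw k (orbs.getD k [])) = true := by decide +kernel

theorem rows_ok : ∀ j < 8, ruleRow cert pcw j = true
  | 0, _ => row0
  | 1, _ => row1
  | 2, _ => row2
  | 3, _ => row3
  | 4, _ => row4
  | 5, _ => row5
  | 6, _ => row6
  | 7, _ => row7
  | _ + 8, h => absurd h (by omega)

end Cfsg.Lib.Leech.Mult.SuzP3
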