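import Cfsg.Agent.Leech.Mult.Suz.SuzP5W

/-!
Certificate data for the prime 5 in a sixfold cover.
-/

set_option autoImplicit false

namespace Cfsg.Lib.Leech.Mult.SuzP5

open Cfsg.Lib.Leech.Stab
open Cfsg.Lib.Schur.Prime (Cert)

/-- Keys of the fixed vectors. -/
def fixed : List ℕ := []

/-- The certificate. -/
def cert : Cert where
  p := 5
  n := 2
  tails := [
    [[]],
    [[0, 1], []]]
  overlaps := []
  fuse := [
    ([[0], [1]],
      [[0, 0, 0, 1], [0, 0, 1, 1]],
      [([1, 0], [0, 1]), ([1, 1, 1, 1, 1], [])]),
    ([[0], [1]],
      [[0, 0, 1, 1, 1, 1], [0, 0, 0, 1, 1, 1]],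
      [([0, 0, 0, 0, 0], [])])]
  delta := [
    [],
    []]
  sels := [
    [[(1, 3), (2, 3)]],
    [[(0, 3)], [(1, 3), (2, 4)]]]

/-- Words of the generators. -/
def pcw : List (List Atom) := SuzP5W.pcid.map fun i => SuzP5W.ws.getD i []

/-- Words of the conjugating elements. -/
def fw : List (List Atom) := SuzP5W.fid.map fun i => SuzP5W.ws.getD i []

/-- Small stable sets of vectors. -/
def orbs : List (List ℕ) := [
  [686053159114795289240674611757597208, 686136908234335311181045360906158542, 686055612709684129558590893119326734, 602973871526050634355767457889139214, 769046243989111081867294735115764302],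
  [686053159114795289240674611757597208]]

theorem cert_ok : cert.ok = true := by decide +kernel

theorem pcw_ok : wordsOK fixed pcw = true ∧ wordsOK fixed fw = true := by decide +kernel

theorem row0 : ruleRow cert pcw 0 = true := by decide +kernel

theorem row1 : ruleRow cert pcw 1 = true := by decide +kernel

theorem fus_ok : fusOK cert pcw fw = true := by decide +kernel

theorem orbs_ok : (List.range 2).all (fun k => orbOK 2 pcw k (orbs.getD k [])) = true := by decide +kernel

theorem rows_ok : ∀ j < 2, ruleRow cert pcw j = true
  | 0, _ => row0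
  | 1, _ => row1
  | _ + 2, h => absurd h (by omega)

end Cfsg.Lib.Leech.Mult.SuzP5
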