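import Cfsg.Agent.Leech.Mult.Suz.Common
import Cfsg.Agent.Leech.Mult.Suz.SuzP2
import Cfsg.Agent.Leech.Mult.Suz.SuzP3
import Cfsg.Agent.Leech.Mult.Suz.SuzP5
import Cfsg.Agent.SuzPres.Simple

/-!
The multiplier of the presented Suzuki group.
-/

set_option autoImplicit false

namespace Cfsg.Lib.Leech.Mult.Suz

open Cfsg Cfsg.Lib.Leech Stab
open Cfsg.Lib.CosetCert (wval)

theorem words_lt_seven : (SuzPres.allWords.all fun w => w.all fun l => decide (l < 7)) = true := by decide +kernel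

theorem rel_all {w : List ℕ} (hw : w ∈ SuzPres.allWords) : relOK 7 6 w = true := by
  rcases List.mem_append.mp hw with h | h
  · obtain ⟨x, hx, h⟩ := List.mem_flatMap.mp h
    exact List.all_eq_true.mp (rel_pairs x (List.mem_range.mp hx)) w h
  · exact List.all_eq_true.mp rel_extra w h

theorem suz_cover : ∃ π : cov 7 7 →* Cfsg.Spor.Suz, Function.Surjective π ∧ π.ker = scal 7 7 ∧
    Nat.card (cov 7 7) = 2690072985600 := by
  haveI := SuzPres.simple_suz
  haveI := scal_normal (k := 7) (zi := 7) le_rfl comm_ok.1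
  let f : ℕ → cov 7 7 ⧸ scal 7 7 := fun l => QuotientGroup.mk (cl 7 7 l)
  have hgood : SuzPres.Good f := by
    intro w hw
    have hlt : ∀ l ∈ w, l < 7 := fun l hl => by
      simpa using List.all_eq_true.mp (List.all_eq_true.mp words_lt_seven w hw) l hl
    have : wval f w = QuotientGroup.mk' (scal 7 7) (wval (cl 7 7) w) := by
      rw [wval, wval, map_list_prod, List.map_map]; rfl
    rw [this]
    exact (QuotientGroup.eq_one_iff _).mpr (rel_mem hlt (rel_all hw))
  obtain ⟨π, h1, h2, h3⟩ := exists_cover (k := 7) (zi := 7) SuzPres.im SuzPres.closure_im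
    (SuzPres.toGrp hgood) (fun i hi => SuzPres.toGrp_im hgood hi) cl_zero_not_scal_seven (by norm_num)
  exact ⟨π, h1, h2, by rw [h3, SuzPres.card_suz, order_seven]⟩

theorem prime_sq_suz {p : ℕ} (hp : p.Prime) (h2 : p ^ 2 ∣ 2690072985600) : p = 2 ∨ p = 3 ∨ p = 5 := by
  have h1 : p ∣ 2 ^ 14 * 3 ^ 8 * 5 ^ 2 * (7 * 11 * 13) := (dvd_pow_self p two_ne_zero).trans (by norm_num; exact h2)
  rcases hp.dvd_mul.mp h1 with h1 | h1
  · rcases hp.dvd_mul.mp h1 with h1 | h1
    · rcases hp.dvd_mul.mp h1 with h1 | h1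
      · exact Or.inl ((Nat.prime_dvd_prime_iff_eq hp Nat.prime_two).mp (hp.dvd_of_dvd_pow h1))
      · exact Or.inr (Or.inl ((Nat.prime_dvd_prime_iff_eq hp Nat.prime_three).mp (hp.dvd_of_dvd_pow h1)))
    · exact Or.inr (Or.inr ((Nat.prime_dvd_prime_iff_eq hp Nat.prime_five).mp (hp.dvd_of_dvd_pow h1)))
  · rcases hp.dvd_mul.mp h1 with h1 | h1
    · rcases hp.dvd_mul.mp h1 with h1 | h1
      · rw [(Nat.prime_dvd_prime_iff_eq hp (by norm_num)).mp h1] at h2; norm_num at h2
      · rw [(Nat.prime_dvd_prime_iff_eq hp (by norm_num)).mp h1] at h2; norm_num at h2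
    · rw [(Nat.prime_dvd_prime_iff_eq hp (by norm_num)).mp h1] at h2; norm_num at h2

theorem base_mem_seven {i : ℕ} (h : i < 9) : lel i ∈ cov 7 7 := by
  rcases Nat.lt_or_ge i 8 with h' | h'
  · exact lel_mem (by omega)
  · rw [show i = 8 by omega]; exact lel_eight_mem

theorem ws_base : (∀ i < SuzP2W.base.length, SuzP2W.ws.getD i [] = lifts.getD (SuzP2W.base.getD i 0) []) ∧
    (∀ i < SuzP3W.base.length, SuzP3W.ws.getD i [] = lifts.getD (SuzP3W.base.getD i 0) []) ∧
    (∀ i < SuzP5W.base.length, SuzP5W.ws.getD i [] = lifts.getD (SuzP5W.base.getD i 0) []) := by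
  refine ⟨fun i hi => ?_, fun i hi => ?_, fun i hi => ?_⟩
  all_goals
    first
      | simp only [SuzP2W.ws] | simp only [SuzP3W.ws] | simp only [SuzP5W.ws]
    rw [List.getD_append _ _ _ _ (by simpa using hi), List.getD_eq_getElem _ _ (by simpa using hi), List.getElem_map,
      List.getD_eq_getElem _ _ hi]

theorem bases_lt : (SuzP2W.base ++ SuzP3W.base ++ SuzP5W.base).all (fun i => decide (i < 9)) = true ∧
    (SuzP2W.base.length = 9 ∧ SuzP3W.base.length = 9 ∧ SuzP5W.base.length = 7) := by decide +kernel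

theorem suz_cov_ker {Γ : Type} [Group Γ] [Finite Γ] {σ : Γ →* cov 7 7} (hσ : Cfsg.IsStemExtension σ) :
    σ.ker = ⊥ := by
  haveI : Finite Co0 := Nat.finite_of_card_ne_zero (by rw [card_co0]; norm_num)
  obtain ⟨π, -, -, hcard⟩ := suz_cover
  have hb : ∀ l, l ∈ SuzP2W.base ∨ l ∈ SuzP3W.base ∨ l ∈ SuzP5W.base → lel l ∈ cov 7 7 := fun l hl =>
    base_mem_seven (by simpa using List.all_eq_true.mp bases_lt.1 l (by simpa [or_assoc] using hl))
  obtain ⟨l2, l3, l5⟩ := bases_lt.2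
  refine Cfsg.Lib.Schur.ker_eq_bot_of_sylow hσ fun p hp => ?_
  haveI := hp
  by_cases h2 : p ^ 2 ∣ 2690072985600
  · rcases prime_sq_suz hp.out h2 with rfl | rfl | rfl
    · exact SuzP2.cert.exists_sylow (not_dvd_cov (fun i hi => hb i (Or.inl hi)) ws_base.1 SuzP2W.ws_ok SuzP2W.len_ok
        (by rw [l2]; exact SuzP2W.blocks) SuzP2.cert (show Nat.Prime 2 by norm_num) SuzP2.cert_ok SuzP2W.pcid
        SuzP2W.fid SuzP2.pcw_ok SuzP2.rows_ok SuzP2.fus_ok SuzP2.orbs SuzP2.orbs_ok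
        (by rw [hcard]; exact factorization_of (p := 2) (e := 14) (by norm_num) (by norm_num) (by norm_num) (by norm_num)) hσ)
    · exact SuzP3.cert.exists_sylow (not_dvd_cov (fun i hi => hb i (Or.inr (Or.inl hi))) ws_base.2.1 SuzP3W.ws_ok
        SuzP3W.len_ok (by rw [l3]; exact SuzP3W.blocks) SuzP3.cert (show Nat.Prime 3 by norm_num) SuzP3.cert_ok
        SuzP3W.pcid SuzP3W.fid SuzP3.pcw_ok SuzP3.rows_ok SuzP3.fus_ok SuzP3.orbs SuzP3.orbs_ok
        (by rw [hcard]; exact factorization_of (p := 3) (e := 8) (by norm_num) (by norm_num) (by norm_num) (by norm_num)) hσ)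
    · exact SuzP5.cert.exists_sylow (not_dvd_cov (fun i hi => hb i (Or.inr (Or.inr hi))) ws_base.2.2 SuzP5W.ws_ok
        SuzP5W.len_ok (by rw [l5]; exact SuzP5W.blocks) SuzP5.cert (show Nat.Prime 5 by norm_num) SuzP5.cert_ok
        SuzP5W.pcid SuzP5W.fid SuzP5.pcw_ok SuzP5.rows_ok SuzP5.fus_ok SuzP5.orbs SuzP5.orbs_ok
        (by rw [hcard]; exact factorization_of (p := 5) (e := 2) (by norm_num) (by norm_num) (by norm_num) (by norm_num)) hσ)
  · exact Cfsg.Lib.Schur.exists_sylow_cyclic hσ (by rwa [hcard])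

theorem suz_multiplier : Cfsg.HasCyclicSchurMultiplier Cfsg.Spor.Suz 6 := by
  haveI : Finite Co0 := Nat.finite_of_card_ne_zero (by rw [card_co0]; norm_num)
  obtain ⟨π, hs, hk, -⟩ := suz_cover
  refine Cfsg.Lib.Schur.hasCyclicSchurMultiplier_of_cover π
    ⟨hs, by rw [hk]; exact scal_le_center le_rfl comm_ok.1, by rw [perfect_seven]; exact le_top⟩ perfect_seven
    (fun Δ _ _ τ hτ => suz_cov_ker hτ) ?_ ?_
  · rw [hk]; infer_instance
  · rw [hk, Nat.card_zpowers, order_seven]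

end Cfsg.Lib.Leech.Mult.Suz
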