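import Cfsg.Agent.Leech.Mult.Suz.Perfect
import Cfsg.Agent.Schur.SylowTransfer
import Cfsg.Agent.Schur.Criteria

/-!
Excluding a prime for the covers, given a program for the certified words.
-/

set_option autoImplicit false

namespace Cfsg.Lib.Leech.Mult.Suz

open Cfsg Cfsg.Lib.Leech Stab

universe u

theorem lel_eight_mem : lel 8 ∈ cov 7 7 := by
  have h := eq_of_eqW (v := [8]) (w := List.replicate 3 7) pow_ok.2.2
  simp only [Cfsg.Lib.CosetCert.wval, List.map_cons, List.map_nil, List.prod_cons, List.prod_nil, mul_one,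
    List.map_replicate, List.prod_replicate] at h
  rw [h]
  exact pow_mem (lel_mem (Or.inr rfl)) 3

theorem not_dvd_cov {k zi : ℕ} {base : List ℕ} {ws : List (List Atom)} {rs : List (List ℕ × Bool)} {m : ℕ}
    (hbase : ∀ i ∈ base, lel i ∈ cov k zi) (hws : ∀ i < base.length, ws.getD i [] = lifts.getD (base.getD i 0) [])
    (hok : wordsOK [] ws = true)
    (hlen : (decide (ws.length ≤ rs.length) && decide (rs.length ≤ 10 * m)) = true)
    (hblk : ∀ j < m, slpBlock base.length ws rs j = true)
    (c : Cfsg.Lib.Schur.Prime.Cert) (hp : c.p.Prime) (hc : c.ok = true) (pcid fid : List ℕ)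
    (hpw : wordsOK [] (pcid.map fun i => ws.getD i []) = true ∧ wordsOK [] (fid.map fun i => ws.getD i []) = true)
    (hrules : ∀ j < c.n, ruleRow c (pcid.map fun i => ws.getD i []) j = true)
    (hfus : fusOK c (pcid.map fun i => ws.getD i []) (fid.map fun i => ws.getD i []) = true)
    (O : List (List ℕ))
    (hO : (List.range c.n).all (fun t => orbOK c.n (pcid.map fun i => ws.getD i []) t (O.getD t [])) = true)
    (hcard : (Nat.card (cov k zi)).factorization c.p = c.n)
    {Γ : Type u} [Group Γ] [Finite Γ] {σ : Γ →* cov k zi} (hσ : Cfsg.IsStemExtension σ) :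
    ¬ c.p ∣ Nat.card σ.ker := by
  haveI : Finite Co0 := Nat.finite_of_card_ne_zero (by rw [card_co0]; norm_num)
  have hmem := slp_mem (Γ := cov k zi) hok (fun i hi => by
    rw [hws i hi]
    exact hbase _ (by rw [List.getD_eq_getElem _ _ hi]; exact List.getElem_mem hi)) hlen hblk
  have hget : ∀ (l : List ℕ) (t : ℕ), ∃ q : cov k zi,
      (cov k zi).subtype q = el ((l.map fun i => ws.getD i []).getD t []) := by
    intro l t
    by_cases ht : t < l.length
    · rw [List.getD_eq_getElem _ _ (by simpa using ht), List.getElem_map]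
      exact ⟨⟨_, hmem _⟩, rfl⟩
    · rw [List.getD_eq_default _ _ (by simpa using ht)]
      exact ⟨1, rfl⟩
  exact not_dvd_ker_of (cov k zi).subtype (Subgroup.subtype_injective _) [] c hp hc _ _ hpw.1 hpw.2 hrules hfus O
    (fun t ht => List.all_eq_true.mp hO t (List.mem_range.mpr ht)) hcard (hget pcid) (hget fid) hσ

theorem factorization_of {n p e : ℕ} (hn : n ≠ 0) (hp : p.Prime) (h1 : p ^ e ∣ n) (h2 : ¬ p ^ (e + 1) ∣ n) :
    n.factorization p = e := by
  refine le_antisymm ?_ ((hp.pow_dvd_iff_le_factorization hn).mp h1)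
  by_contra h
  exact h2 ((hp.pow_dvd_iff_le_factorization hn).mpr (by omega))

end Cfsg.Lib.Leech.Mult.Suz
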