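import Cfsg.Agent.Leech.Mult.Suz.Rel
import Cfsg.Agent.Schur.UniversalCover
import Cfsg.Prelude.Def_KGroupFacts

/-!
The subgroup of the lattice automorphisms generated by some of the words is a central cover of a simple group.
-/

set_option autoImplicit false

namespace Cfsg.Lib.Leech.Mult.Suz

open Cfsg Cfsg.Lib.Golay Cfsg.Lib.Leech Stab
open Cfsg.Lib.CosetCert (wval)

/-- The automorphism of a letter. -/
noncomputable def lel (i : ℕ) : Co0 := el (lifts.getD i [])

/-- The cover on the first `k` letters and a central letter. -/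
noncomputable def cov (k zi : ℕ) : Subgroup Co0 := Subgroup.closure (lel '' {i | i < k ∨ i = zi})

theorem lel_mem {k zi i : ℕ} (h : i < k ∨ i = zi) : lel i ∈ cov k zi := Subgroup.subset_closure ⟨i, h, rfl⟩

theorem el_words_lel (w : List ℕ) : el (words lifts w) = wval lel w := el_words lifts w

theorem eq_of_eqW {v w : List ℕ} (h : eqW (words lifts v) (words lifts w) = true) : wval lel v = wval lel w := by
  rw [← el_words_lel, ← el_words_lel]
  exact el_eq (words_ok lifts_ok _) (words_ok lifts_ok _) h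

theorem ne_of_neOK {v w : List ℕ} (h : neOK v w = true) : wval lel v ≠ wval lel w := by
  intro e
  rw [← el_words_lel, ← el_words_lel] at e
  have hk : ks.getD 0 0 ∈ ks := by
    rw [List.getD_eq_getElem _ _ (by simp [ks])]; exact List.getElem_mem _
  obtain ⟨s1, e1⟩ := el_smul (words_ok lifts_ok v) (ks_short _ hk)
  obtain ⟨s2, e2⟩ := el_smul (words_ok lifts_ok w) (ks_short _ hk)
  rw [e, e2] at e1
  have h5 : dec (evalW (words lifts w) (ks.getD 0 0)) = dec (evalW (words lifts v) (ks.getD 0 0)) :=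
    congrArg Subtype.val e1
  obtain ⟨i, hi, hne⟩ := List.any_eq_true.mp h
  simp only [Bool.not_eq_true', beq_eq_false_iff_ne] at hne
  have h6 := congrFun h5 (ptAt i)
  simp only [dec, co, Cfsg.Lib.Golay.pidx_ptAt ⟨i, List.mem_range.mp hi⟩] at h6
  omega

variable {k zi : ℕ}

/-- The central element. -/
noncomputable def cz (k zi : ℕ) : cov k zi := ⟨lel zi, lel_mem (Or.inr rfl)⟩

theorem cz_central (hk : k ≤ 7) (hc : commOK zi = true) : cz k zi ∈ Subgroup.center (cov k zi) := by
  refine Subgroup.mem_center_iff.mpr fun g => Subtype.ext ?_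
  obtain ⟨g, hg⟩ := g
  show g * lel zi = lel zi * g
  induction hg using Subgroup.closure_induction with
  | mem y hy =>
    obtain ⟨i, hi | rfl, rfl⟩ := hy
    · have := eq_of_eqW (List.all_eq_true.mp hc i (List.mem_range.mpr (by omega)))
      simpa [wval] using this.symm
    · rfl
  | one => simp
  | mul a b _ _ ha hb => rw [mul_assoc, hb, ← mul_assoc, ha, mul_assoc]
  | inv a _ ha => exact ((Commute.inv_left (show Commute a (lel zi) from ha))).eq

/-- The scalars. -/
noncomputable abbrev scal (k zi : ℕ) : Subgroup (cov k zi) := Subgroup.zpowers (cz k zi)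

theorem scal_le_center (hk : k ≤ 7) (hc : commOK zi = true) : scal k zi ≤ Subgroup.center (cov k zi) :=
  Subgroup.zpowers_le.mpr (cz_central hk hc)

theorem scal_normal (hk : k ≤ 7) (hc : commOK zi = true) : (scal k zi).Normal :=
  Cfsg.Lib.Schur.normal_of_le_center (scal_le_center hk hc)

/-- A letter in the cover. -/
noncomputable def cl (k zi i : ℕ) : cov k zi := if h : i < k then ⟨lel i, lel_mem (Or.inl h)⟩ else 1

theorem coe_wval_cl {w : List ℕ} (hw : ∀ l ∈ w, l < k) : ((wval (cl k zi) w : cov k zi) : Co0) = wval lel w := by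
  rw [wval, SubmonoidClass.coe_list_prod, List.map_map]
  refine congrArg List.prod (List.map_congr_left fun l hl => ?_)
  simp [cl, hw l hl]

theorem rel_mem {m : ℕ} {w : List ℕ} (hw : ∀ l ∈ w, l < k) (h : relOK zi m w = true) :
    wval (cl k zi) w ∈ scal k zi := by
  obtain ⟨j, -, hj⟩ := List.any_eq_true.mp h
  refine ⟨j, Subtype.ext ?_⟩
  show ((cz k zi ^ (j : ℤ) : cov k zi) : Co0) = _
  rw [zpow_natCast, SubmonoidClass.coe_pow, coe_wval_cl hw, eq_of_eqW hj]
  simp [wval, cz]

theorem closure_cl : Subgroup.closure (cl k zi '' Set.Iio k ∪ {cz k zi}) = ⊤ := by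
  refine top_le_iff.1 fun x _ => ?_
  have h : cov k zi ≤ (Subgroup.closure (cl k zi '' Set.Iio k ∪ {cz k zi})).map (cov k zi).subtype := by
    refine (Subgroup.closure_le _).2 ?_
    rintro _ ⟨i, hi, rfl⟩
    rcases hi with hi | rfl
    · exact ⟨cl k zi i, Subgroup.subset_closure (Or.inl ⟨i, hi, rfl⟩), by simp [cl, hi]⟩
    · exact ⟨cz k i, Subgroup.subset_closure (Or.inr rfl), rfl⟩
  obtain ⟨y, hy, e⟩ := h x.2
  rwa [Subtype.ext e] at hy

/-- Every letter and the centre die in a commutative quotient, given the equations. -/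
theorem exp_six {A : Type*} [CommGroup A] (a b c d e f n : A) (b2 : b * b = 1) (c2 : c * c = 1) (d2 : d * d = n)
    (e2 : e * e = n) (f2 : f * f = 1) (a2 : a * a = 1) (n2 : n * n = 1) (hab : (a * b) ^ 5 = n)
    (hbc : (b * c) ^ 3 = 1) (hbf : (b * f) ^ 3 = 1) (hde : (d * e) ^ 3 = 1) (hcd : a * (d * c) ^ 4 = n)
    (habcf : (a * (b * (c * f))) ^ 5 = 1) : a = 1 ∧ b = 1 ∧ c = 1 ∧ d * e = 1 ∧ f = 1 ∧ n = 1 := by
  have odd : ∀ {x : A}, x * x = 1 → ∀ j : ℕ, x ^ (2 * j + 1) = x := fun {x} hx j => by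
    rw [pow_succ, pow_mul, pow_two, hx, one_pow, one_mul]
  have han : a = n := by
    rw [mul_pow, show d ^ 4 = (d * d) * (d * d) by rw [pow_succ, pow_succ, pow_succ, pow_one, mul_assoc],
      show c ^ 4 = (c * c) * (c * c) by rw [pow_succ, pow_succ, pow_succ, pow_one, mul_assoc], c2, d2, n2] at hcd
    simpa using hcd
  have hb : b = 1 := by
    rw [mul_pow, odd a2 2, odd b2 2, han] at hab
    simpa using hab
  have hc : c = 1 := by rw [hb, one_mul] at hbc; rw [← odd c2 1]; exact hbc
  have hf : f = 1 := by rw [hb, one_mul] at hbf; rw [← odd f2 1]; exact hbf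
  have ha : a = 1 := by rw [hb, hc, hf, one_mul, one_mul, mul_one] at habcf; rw [← odd a2 2]; exact habcf
  have hn : n = 1 := han ▸ ha
  refine ⟨ha, hb, hc, ?_, hf, hn⟩
  have hde2 : (d * e) * (d * e) = 1 := by rw [mul_mul_mul_comm, d2, e2, n2]
  rw [← odd hde2 1]; exact hde

/-- Assemble the cover and the surjection. -/
theorem exists_cover {Q : Type} [Group Q] [Finite Q] [IsSimpleGroup Q] [(scal k zi).Normal]
    (q : ℕ → Q) (hgen : Subgroup.closure (q '' Set.Iio k) = ⊤)
    (φ : Q →* cov k zi ⧸ scal k zi)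
    (hφ : ∀ i < k, φ (q i) = QuotientGroup.mk (cl k zi i))
    (hne : cl k zi 0 ∉ scal k zi) (h0 : 0 < k) :
    ∃ π : cov k zi →* Q, Function.Surjective π ∧ π.ker = scal k zi ∧
      Nat.card (cov k zi) = Nat.card Q * orderOf (cz k zi) := by
  have hinj : Function.Injective φ := by
    rw [← MonoidHom.ker_eq_bot_iff]
    refine (Subgroup.Normal.eq_bot_or_eq_top inferInstance).resolve_right fun h => hne ?_
    have : φ (q 0) = 1 := by rw [← MonoidHom.mem_ker, h]; exact Subgroup.mem_top _
    rw [hφ 0 h0] at this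
    exact (QuotientGroup.eq_one_iff _).mp this
  have hsurj : Function.Surjective φ := by
    rw [← MonoidHom.range_eq_top, eq_top_iff]
    have htop : (⊤ : Subgroup (cov k zi)).map (QuotientGroup.mk' (scal k zi)) = ⊤ :=
      Subgroup.map_top_of_surjective _ (QuotientGroup.mk'_surjective _)
    rw [← htop, ← closure_cl, MonoidHom.map_closure, Subgroup.closure_le]
    rintro _ ⟨y, hy, rfl⟩
    rcases hy with ⟨i, hi, rfl⟩ | rfl
    · exact ⟨q i, hφ i hi⟩
    · exact ⟨1, by
        rw [map_one]; exact ((QuotientGroup.eq_one_iff _).mpr (Subgroup.mem_zpowers _)).symm⟩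
  let e : Q ≃* cov k zi ⧸ scal k zi := MulEquiv.ofBijective φ ⟨hinj, hsurj⟩
  refine ⟨e.symm.toMonoidHom.comp (QuotientGroup.mk' (scal k zi)),
    e.symm.surjective.comp (QuotientGroup.mk'_surjective _), ?_, ?_⟩
  · ext x
    rw [MonoidHom.mem_ker, MonoidHom.comp_apply, MulEquiv.coe_toMonoidHom, map_eq_one_iff _ e.symm.injective,
      QuotientGroup.mk'_apply, QuotientGroup.eq_one_iff]
  · rw [Subgroup.card_eq_card_quotient_mul_card_subgroup (scal k zi), ← Nat.card_congr e.toEquiv, Nat.card_zpowers]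

end Cfsg.Lib.Leech.Mult.Suz
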