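import Cfsg.Agent.Leech.Mult.Suz.Cover
import Cfsg.Agent.Leech.MaximalCount

/-!
The covers are perfect, and membership of the certified words.
-/

set_option autoImplicit false
set_option maxRecDepth 20000

namespace Cfsg.Lib.Leech.Mult.Suz

open Cfsg Cfsg.Lib.Leech Stab
open Cfsg.Lib.CosetCert (wval)

variable {k zi : ℕ}

theorem rel_last : eqW (words lifts (SuzPres.rpt 3 (SuzPres.rpt 5 [1, 2, 3, 2, 3] ++ [4]))) [] = true := by
  decide +kernel

theorem pow_eight : (cz k 8) ^ 2 = 1 := by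
  refine Subtype.ext ?_
  have := eq_of_eqW (v := [8, 8]) (w := []) pow_ok.2.1
  simpa [wval, cz, pow_two] using this

theorem pow_seven : (cz k 7) ^ 6 = 1 := by
  refine Subtype.ext ?_
  have := eq_of_eqW (v := List.replicate 6 7) (w := []) pow_ok.1
  simpa [wval, cz, pow_succ, mul_assoc] using this

theorem order_eight : orderOf (cz k 8) = 2 := by
  haveI : Fact (Nat.Prime 2) := ⟨Nat.prime_two⟩
  refine orderOf_eq_prime pow_eight fun e => ne_of_neOK ne_ok.2.2.1 ?_
  simpa [wval, cz] using congrArg (fun x : cov k 8 => (x : Co0)) e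

theorem order_seven : orderOf (cz k 7) = 6 := by
  refine orderOf_eq_of_pow_and_pow_div_prime (by norm_num) pow_seven fun p hp hd => ?_
  intro e
  have e' := congrArg (fun x : cov k 7 => (x : Co0)) e
  simp only [SubmonoidClass.coe_pow, OneMemClass.coe_one] at e'
  have hp' : p = 2 ∨ p = 3 := by
    rcases hp.dvd_mul.mp (show p ∣ 2 * 3 from hd) with h | h
    · exact Or.inl ((Nat.prime_dvd_prime_iff_eq hp Nat.prime_two).mp h)
    · exact Or.inr ((Nat.prime_dvd_prime_iff_eq hp Nat.prime_three).mp h)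
  rcases hp' with rfl | rfl
  · refine ne_of_neOK ne_ok.2.1 ?_
    simpa [wval, cz, pow_succ, mul_assoc] using e'
  · refine ne_of_neOK ne_ok.1 ?_
    simpa [wval, cz, pow_two] using e'

theorem cl_zero_not_scal_eight : cl 6 8 0 ∉ scal 6 8 := by
  rintro ⟨j, hj⟩
  have hj' := congrArg (fun x : cov 6 8 => (x : Co0)) hj
  simp only [cl, dif_pos (show 0 < 6 by norm_num)] at hj'
  rw [show ((cz 6 8) ^ j : cov 6 8) = cz 6 8 ^ (j % 2) from by
    conv_lhs => rw [← zpow_mod_orderOf, order_eight]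
    norm_num] at hj'
  rcases Int.emod_two_eq_zero_or_one j with h | h <;> rw [h] at hj'
  · exact ne_of_neOK ne_ok.2.2.2.2.1 (by simpa [wval] using hj'.symm)
  · exact ne_of_neOK ne_ok.2.2.2.2.2 (by simpa [wval, cz] using hj'.symm)

theorem cl_zero_not_scal_seven : cl 7 7 0 ∉ scal 7 7 := by
  intro hmem
  classical
  haveI : Finite Co0 := Nat.finite_of_card_ne_zero (by rw [card_co0]; norm_num)
  rw [mem_zpowers_iff_mem_range_orderOf, order_seven] at hmem
  obtain ⟨j, hj, e⟩ := Finset.mem_image.mp hmem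
  refine ne_of_neOK (List.all_eq_true.mp ne_ok.2.2.2.1 j (List.mem_range.mpr (Finset.mem_range.mp hj))) ?_
  have e' := congrArg (fun x : cov 7 7 => (x : Co0)) e
  simpa [wval, cz, cl] using e'.symm

theorem eq_scal {w : List ℕ} {j : ℕ} (hw : ∀ l ∈ w, l < k)
    (h : eqW (words lifts w) (words lifts (List.replicate j zi)) = true) : wval (cl k zi) w = cz k zi ^ j := by
  refine Subtype.ext ?_
  rw [coe_wval_cl hw, eq_of_eqW h, SubmonoidClass.coe_pow]
  simp [wval, cz]

/-- The value in the abelianization. -/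
theorem ab_eq {w : List ℕ} {j : ℕ} (hw : ∀ l ∈ w, l < k)
    (h : eqW (words lifts w) (words lifts (List.replicate j zi)) = true) :
    (w.map fun l => Abelianization.of (cl k zi l)).prod = Abelianization.of (cz k zi) ^ j := by
  have := congrArg Abelianization.of (eq_scal hw h)
  rw [wval, map_list_prod, List.map_map, map_pow] at this
  exact this

/-- The value in the abelianization, the negation as the third power. -/
theorem ab_eq_three {w : List ℕ} (hw : ∀ l ∈ w, l < 7)
    (h : eqW (words lifts w) (words lifts [8]) = true) :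
    (w.map fun l => Abelianization.of (cl 7 7 l)).prod = Abelianization.of (cz 7 7) ^ 3 := by
  refine ab_eq hw ?_
  have h3 := pow_ok.2.2
  simp only [eqW, beq_iff_eq] at h h3 ⊢
  exact h.trans h3

theorem perfect_of (h : ∀ i < k, Abelianization.of (cl k zi i) = 1) (hz : Abelianization.of (cz k zi) = 1) :
    commutator (cov k zi) = ⊤ := by
  rw [eq_top_iff, ← closure_cl, Subgroup.closure_le]
  intro x hx
  show x ∈ commutator (cov k zi)
  refine (QuotientGroup.eq_one_iff x).mp ?_
  rcases hx with ⟨i, hi, rfl⟩ | rfl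
  · exact h i hi
  · exact hz

theorem six_vanish {A : Type*} [CommGroup A] (g : ℕ → A) (n : A) (n2 : n * n = 1)
    (E1 : ([1, 1].map g).prod = 1) (E2 : ([2, 2].map g).prod = 1) (E3 : ([3, 3].map g).prod = n)
    (E4 : ([4, 4].map g).prod = n) (E5 : ([5, 5].map g).prod = 1) (E0 : ([0, 0].map g).prod = 1)
    (Eab : ((SuzPres.rpt 5 [0, 1]).map g).prod = n) (Ebc : ((SuzPres.rpt 3 [1, 2]).map g).prod = 1)
    (Ebf : ((SuzPres.rpt 3 [1, 5]).map g).prod = 1) (Ede : ((SuzPres.rpt 3 [3, 4]).map g).prod = 1)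
    (Ecd : ((0 :: SuzPres.rpt 4 [3, 2]).map g).prod = n) (Eabcf : ((SuzPres.rpt 5 [0, 1, 2, 5]).map g).prod = 1)
    (Elast : ((SuzPres.rpt 3 (SuzPres.rpt 5 [1, 2, 3, 2, 3] ++ [4])).map g).prod = 1) :
    (∀ i < 6, g i = 1) ∧ n = 1 := by
  simp only [SuzPres.rpt, List.map_flatten, List.prod_flatten, List.map_replicate, List.prod_replicate,
    List.map_cons, List.map_nil, List.map_append, List.prod_cons, List.prod_nil, List.prod_append,
    mul_one] at E1 E2 E3 E4 E5 E0 Eab Ebc Ebf Ede Ecd Eabcf Elast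
  obtain ⟨ha, hb, hc, hde, hf, hn⟩ := exp_six (g 0) (g 1) (g 2) (g 3) (g 4) (g 5) n E1 E2 E3 E4 E5 E0 n2 Eab Ebc
    Ebf Ede Ecd Eabcf
  rw [hb, hc] at Elast
  simp only [one_mul, E3, hn, one_pow] at Elast
  rw [hn] at E4
  have he : g 4 = 1 := by rwa [pow_succ, pow_two, E4, one_mul] at Elast
  rw [he, mul_one] at hde
  refine ⟨fun i hi => ?_, hn⟩
  interval_cases i <;> assumption

theorem perfect_eight : commutator (cov 6 8) = ⊤ := by
  obtain ⟨r1, r2, r3, r4, r5, -, r0, rab, rbc, rbf, -, rde, rcd, rabcf, -⟩ := rel_exp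
  have n2 : Abelianization.of (cz 6 8) * Abelianization.of (cz 6 8) = 1 := by
    rw [← map_mul, ← pow_two, pow_eight, map_one]
  have z0 : ∀ {w : List ℕ}, (∀ l ∈ w, l < 6) → eqW (words lifts w) [] = true →
      (w.map fun l => Abelianization.of (cl 6 8 l)).prod = 1 := fun hw h => by
    rw [ab_eq (j := 0) hw h, pow_zero]
  have z1 : ∀ {w : List ℕ}, (∀ l ∈ w, l < 6) → eqW (words lifts w) (words lifts [8]) = true →
      (w.map fun l => Abelianization.of (cl 6 8 l)).prod = Abelianization.of (cz 6 8) := fun hw h => by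
    rw [ab_eq (j := 1) hw h, pow_one]
  obtain ⟨hl, hn⟩ := six_vanish (fun l => Abelianization.of (cl 6 8 l)) _ n2 (z0 (by decide) r1) (z0 (by decide) r2)
    (z1 (by decide) r3) (z1 (by decide) r4) (z0 (by decide) r5) (z0 (by decide) r0) (z1 (by decide) rab)
    (z0 (by decide) rbc) (z0 (by decide) rbf) (z0 (by decide) rde) (z1 (by decide) rcd) (z0 (by decide) rabcf)
    (z0 (by decide) rel_last)
  exact perfect_of hl hn

theorem perfect_seven : commutator (cov 7 7) = ⊤ := by
  obtain ⟨r1, r2, r3, r4, r5, r6, r0, rab, rbc, rbf, rbg, rde, rcd, rabcf, rbfg⟩ := rel_exp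
  set ζ := Abelianization.of (cz 7 7) with hζ
  have n2 : ζ ^ 3 * ζ ^ 3 = 1 := by
    rw [← pow_add, hζ, ← map_pow, pow_seven, map_one]
  have z0 : ∀ {w : List ℕ}, (∀ l ∈ w, l < 7) → eqW (words lifts w) [] = true →
      (w.map fun l => Abelianization.of (cl 7 7 l)).prod = 1 := fun hw h => by
    rw [ab_eq (j := 0) hw h, pow_zero]
  have z1 : ∀ {w : List ℕ}, (∀ l ∈ w, l < 7) → eqW (words lifts w) (words lifts [8]) = true →
      (w.map fun l => Abelianization.of (cl 7 7 l)).prod = ζ ^ 3 := fun hw h => ab_eq_three hw h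
  obtain ⟨hl, hn⟩ := six_vanish (fun l => Abelianization.of (cl 7 7 l)) _ n2 (z0 (by decide) r1) (z0 (by decide) r2)
    (z1 (by decide) r3) (z1 (by decide) r4) (z0 (by decide) r5) (z0 (by decide) r0) (z1 (by decide) rab)
    (z0 (by decide) rbc) (z0 (by decide) rbf) (z0 (by decide) rde) (z1 (by decide) rcd) (z0 (by decide) rabcf)
    (z0 (by decide) rel_last)
  have h6 := z0 (w := [6, 6]) (by decide) r6
  have hbg := z0 (w := SuzPres.rpt 3 [1, 6]) (by decide) rbg
  simp only [SuzPres.rpt, List.map_flatten, List.prod_flatten, List.map_replicate, List.prod_replicate,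
    List.map_cons, List.map_nil, List.prod_cons, List.prod_nil, mul_one] at h6 hbg
  rw [hl 1 (by norm_num), one_mul, pow_succ, pow_two, h6, one_mul] at hbg
  have h4 : ((SuzPres.rpt 5 [1, 5, 6]).map fun l => Abelianization.of (cl 7 7 l)).prod = ζ ^ 4 :=
    ab_eq (j := 4) (by decide) rbfg
  simp only [SuzPres.rpt, List.map_flatten, List.prod_flatten, List.map_replicate, List.prod_replicate,
    List.map_cons, List.map_nil, List.prod_cons, List.prod_nil, mul_one, hl 1 (by norm_num), hl 5 (by norm_num),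
    hbg, one_pow] at h4
  have hz : ζ = 1 := by
    rw [pow_succ, hn, one_mul] at h4
    exact h4.symm
  refine perfect_of (fun i hi => ?_) hz
  rcases Nat.lt_or_ge i 6 with h | h
  · exact hl i h
  · rw [show i = 6 by omega]; exact hbg

end Cfsg.Lib.Leech.Mult.Suz
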