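import Cfsg.Agent.Leech.Mult.Suz.Lifts
import Cfsg.Agent.SuzPres.Relators

/-!
The seven words satisfy the relations up to scalars.
-/

set_option autoImplicit false
set_option maxRecDepth 20000

namespace Cfsg.Lib.Leech.Mult.Suz

open Cfsg.Lib.Leech.Stab

/-- The relation holds up to a power of the central letter. -/
def relOK (zi m : ℕ) (w : List ℕ) : Bool :=
  (List.range m).any fun k => eqW (words lifts w) (words lifts (List.replicate k zi))

/-- Centrality of a letter. -/
def commOK (zi : ℕ) : Bool :=
  (List.range 7).all fun l => eqW (words lifts [zi, l]) (words lifts [l, zi])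

/-- A word is not trivial, seen at a coordinate key. -/
def neOK (w w' : List ℕ) : Bool :=
  (List.range 24).any fun i => !(cv (evalW (words lifts w) (ks.getD 0 0)) i == cv (evalW (words lifts w') (ks.getD 0 0)) i)

theorem lifts_ok : wordsOK [] lifts = true := by decide +kernel

theorem comm_ok : commOK 7 = true ∧ commOK 8 = true := by decide +kernel

theorem pow_ok : eqW (words lifts (List.replicate 6 7)) [] = true ∧ eqW (words lifts [8, 8]) [] = true ∧
    eqW (words lifts [8]) (words lifts (List.replicate 3 7)) = true := by decide +kernel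

theorem ne_ok : neOK [7, 7] [] = true ∧ neOK [7, 7, 7] [] = true ∧ neOK [8] [] = true ∧
    (List.range 6).all (fun k => neOK [0] (List.replicate k 7)) = true ∧
    neOK [0] [] = true ∧ neOK [0] [8] = true := by decide +kernel

open Cfsg.Lib.SuzPres in
theorem rel_pair0 : ((List.range 7).map (pairWord 0)).all (relOK 7 6) = true := by decide +kernel

open Cfsg.Lib.SuzPres in
theorem rel_pair1 : ((List.range 7).map (pairWord 1)).all (relOK 7 6) = true := by decide +kernel

open Cfsg.Lib.SuzPres in
theorem rel_pair2 : ((List.range 7).map (pairWord 2)).all (relOK 7 6) = true := by decide +kernel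

open Cfsg.Lib.SuzPres in
theorem rel_pair3 : ((List.range 7).map (pairWord 3)).all (relOK 7 6) = true := by decide +kernel

open Cfsg.Lib.SuzPres in
theorem rel_pair4 : ((List.range 7).map (pairWord 4)).all (relOK 7 6) = true := by decide +kernel

open Cfsg.Lib.SuzPres in
theorem rel_pair5 : ((List.range 7).map (pairWord 5)).all (relOK 7 6) = true := by decide +kernel

open Cfsg.Lib.SuzPres in
theorem rel_pair6 : ((List.range 7).map (pairWord 6)).all (relOK 7 6) = true := by decide +kernel

open Cfsg.Lib.SuzPres in
theorem rel_pairs : ∀ x < 7, ((List.range 7).map (pairWord x)).all (relOK 7 6) = true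
  | 0, _ => rel_pair0
  | 1, _ => rel_pair1
  | 2, _ => rel_pair2
  | 3, _ => rel_pair3
  | 4, _ => rel_pair4
  | 5, _ => rel_pair5
  | 6, _ => rel_pair6
  | _ + 7, h => absurd h (by omega)

open Cfsg.Lib.SuzPres in
theorem rel_extra : extraWords.all (relOK 7 6) = true := by decide +kernel

open Cfsg.Lib.SuzPres in
theorem rel_six : (allWords.filter fun w => w.all fun l => decide (l < 6)).all (relOK 8 2) = true := by decide +kernel

/-- The equations used for perfectness. -/
theorem rel_exp : eqW (words lifts [1, 1]) [] = true ∧ eqW (words lifts [2, 2]) [] = true ∧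
    eqW (words lifts [3, 3]) (words lifts [8]) = true ∧
    eqW (words lifts [4, 4]) (words lifts [8]) = true ∧
    eqW (words lifts [5, 5]) [] = true ∧ eqW (words lifts [6, 6]) [] = true ∧
    eqW (words lifts [0, 0]) [] = true ∧
    eqW (words lifts (SuzPres.rpt 5 [0, 1])) (words lifts [8]) = true ∧
    eqW (words lifts (SuzPres.rpt 3 [1, 2])) [] = true ∧
    eqW (words lifts (SuzPres.rpt 3 [1, 5])) [] = true ∧
    eqW (words lifts (SuzPres.rpt 3 [1, 6])) [] = true ∧
    eqW (words lifts (SuzPres.rpt 3 [3, 4])) [] = true ∧
    eqW (words lifts (0 :: SuzPres.rpt 4 [3, 2])) (words lifts [8]) = true ∧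
    eqW (words lifts (SuzPres.rpt 5 [0, 1, 2, 5])) [] = true ∧
    eqW (words lifts (SuzPres.rpt 5 [1, 5, 6])) (words lifts [7, 7, 7, 7]) = true := by decide +kernel

end Cfsg.Lib.Leech.Mult.Suz
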