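import Cfsg.Agent.Leech.Mult.Suz.SixP3W

/-!
Certificate data for the prime 3 in a sixfold cover.
-/

set_option autoImplicit false

namespace Cfsg.Lib.Leech.Mult.SixP3

open Cfsg.Lib.Leech.Stab
open Cfsg.Lib.Schur.Prime (Cert)

/-- Keys of the fixed vectors. -/
def fixed : List ℕ := []

/-- The certificate. -/
def cert : Cert where
  p := 3
  n := 3
  tails := [
    [[]],
    [[0, 1, 2, 2], []],
    [[0, 2], [1, 2], []]]
  overlaps := [([1, 0, 0, 0], 1)]
  fuse := [
    ([[0], [1], [2]],
      [[0, 0], [1, 1, 2, 2], [2]],
      [([0, 0, 0], []), ([1, 1, 1], []), ([2, 0], [0, 2]), ([2, 1], [1, 2])])]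
  delta := [
    [],
    [],
    [(3, 2)]]
  sels := [
    [[(1, 2)]],
    [[], [(0, 2), (2, 2)]],
    [[(3, 2)], [(4, 2)], [(0, 2)]]]

/-- Words of the generators. -/
def pcw : List (List Atom) := SixP3W.pcid.map fun i => SixP3W.ws.getD i []

/-- Words of the conjugating elements. -/
def fw : List (List Atom) := SixP3W.fid.map fun i => SixP3W.ws.getD i []

/-- Small stable sets of vectors. -/
def orbs : List (List ℕ) := [
  [686053159114795289240674611757597208, 683378418899220403504656218109594064, 602978947232689906220023361770633740, 766612275528718973209115378779240912, 728928864474362207473204754885623409, 769127370996900672261325861744560652, 645692470072696870260657912496504367, 645852193970803256744162862277574127, 645854731742970024252250543997046321],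
  [686053159114795289240674611757597208, 602978947232689906220023361770633740, 769127370996900672261325861744560652],
  [686053159114795289240674611757597208]]

theorem cert_ok : cert.ok = true := by decide +kernel

theorem pcw_ok : wordsOK fixed pcw = true ∧ wordsOK fixed fw = true := by decide +kernel

theorem row0 : ruleRow cert pcw 0 = true := by decide +kernel

theorem row1 : ruleRow cert pcw 1 = true := by decide +kernel

theorem row2 : ruleRow cert pcw 2 = true := by decide +kernel

theorem fus_ok : fusOK cert pcw fw = true := by decide +kernel

theorem orbs_ok : (List.range 3).all (fun k => orbOK 3 pcw k (orbs.getD k [])) = true := by decide +kernel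

theorem rows_ok : ∀ j < 3, ruleRow cert pcw j = true
  | 0, _ => row0
  | 1, _ => row1
  | 2, _ => row2
  | _ + 3, h => absurd h (by omega)

end Cfsg.Lib.Leech.Mult.SixP3
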