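import Cfsg.Agent.Leech.Mult.Suz.Common
import Cfsg.Agent.Leech.Mult.Suz.SixP2
import Cfsg.Agent.Leech.Mult.Suz.SixP3
import Cfsg.Agent.Leech.Mult.Suz.SuzP5
import Cfsg.Agent.SuzPres.Six

/-!
The multiplier of the group of type `G₂` over four elements.
-/

set_option autoImplicit false
set_option maxRecDepth 4000

namespace Cfsg.Lib.Leech.Mult.Suz

open Cfsg Cfsg.Lib.Leech Stab
open Cfsg.Lib.CosetCert (wval)
open Cfsg.Lib.PrimeGraph (GF4 KQuad card_GF4)

universe u

theorem six_cover : ∃ π : cov 6 8 →* GF4, Function.Surjective π ∧ π.ker = scal 6 8 ∧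
    Nat.card (cov 6 8) = 503193600 := by
  haveI : IsSimpleGroup GF4 :=
    (Cfsg.Agent.S1055.result (F := KQuad) ⟨KQuad.ofCode 2, by decide +kernel, by decide +kernel⟩).1
  haveI : Finite GF4 := Nat.finite_of_card_ne_zero (by rw [card_GF4]; norm_num)
  haveI := scal_normal (k := 6) (zi := 8) (by norm_num) comm_ok.2
  let f : ℕ → cov 6 8 ⧸ scal 6 8 := fun l => QuotientGroup.mk (cl 6 8 l)
  have hgood : ∀ w ∈ SuzPres.words, SuzPres.smallWord w = true → wval f w = 1 := by
    intro w hw hs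
    have hlt : ∀ l ∈ w, l < 6 := fun l hl => by simpa using List.all_eq_true.mp hs l hl
    have e : wval f w = QuotientGroup.mk' (scal 6 8) (wval (cl 6 8) w) := by
      rw [wval, wval, map_list_prod, List.map_map]; rfl
    rw [e]
    rcases List.mem_cons.mp hw with rfl | hw
    · exact map_one _
    · exact (QuotientGroup.eq_one_iff _).mpr (rel_mem hlt
        (List.all_eq_true.mp rel_six w (List.mem_filter.mpr ⟨hw, hs⟩)))
  have hbij := SuzPres.fromP6_bijective SuzPres.GTwo.img SuzPres.img_good SuzPres.GTwo.closure_img card_GF4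
  let E : SuzPres.P6 ≃* GF4 := MulEquiv.ofBijective _ hbij
  have hE : ∀ i, i < 6 → E (SuzPres.im6 i) = SuzPres.GTwo.img i := fun i hi => by
    rw [MulEquiv.ofBijective_apply, SuzPres.im6, SuzPres.fromP6, PresentedGroup.toGroup.of]
    exact congrArg SuzPres.GTwo.img (Nat.mod_eq_of_lt hi)
  let φ : GF4 →* cov 6 8 ⧸ scal 6 8 := (SuzPres.fromP6 f hgood).comp E.symm.toMonoidHom
  obtain ⟨π, h1, h2, h3⟩ := exists_cover (k := 6) (zi := 8) SuzPres.GTwo.img SuzPres.GTwo.closure_img φ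
    (fun i hi => by
      show SuzPres.fromP6 f hgood (E.symm (SuzPres.GTwo.img i)) = _
      rw [← hE i hi, MulEquiv.symm_apply_apply, SuzPres.im6, SuzPres.fromP6, PresentedGroup.toGroup.of]
      exact congrArg f (Nat.mod_eq_of_lt hi)) cl_zero_not_scal_eight (by norm_num)
  exact ⟨π, h1, h2, by rw [h3, card_GF4, order_eight]⟩

theorem prime_sq_six {p : ℕ} (hp : p.Prime) (h2 : p ^ 2 ∣ 503193600) : p = 2 ∨ p = 3 ∨ p = 5 := by
  have h1 : p ∣ 2 ^ 13 * 3 ^ 3 * 5 ^ 2 * (7 * 13) := (dvd_pow_self p two_ne_zero).trans (by norm_num; exact h2)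
  rcases hp.dvd_mul.mp h1 with h1 | h1
  · rcases hp.dvd_mul.mp h1 with h1 | h1
    · rcases hp.dvd_mul.mp h1 with h1 | h1
      · exact Or.inl ((Nat.prime_dvd_prime_iff_eq hp Nat.prime_two).mp (hp.dvd_of_dvd_pow h1))
      · exact Or.inr (Or.inl ((Nat.prime_dvd_prime_iff_eq hp Nat.prime_three).mp (hp.dvd_of_dvd_pow h1)))
    · exact Or.inr (Or.inr ((Nat.prime_dvd_prime_iff_eq hp Nat.prime_five).mp (hp.dvd_of_dvd_pow h1)))
  · rcases hp.dvd_mul.mp h1 with h1 | h1
    · rw [(Nat.prime_dvd_prime_iff_eq hp (by norm_num)).mp h1] at h2; norm_num at h2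
    · rw [(Nat.prime_dvd_prime_iff_eq hp (by norm_num)).mp h1] at h2; norm_num at h2

theorem six_base : (SixP2W.base ++ SixP3W.base ++ SuzP5W.base).all (fun i => decide (i < 6 ∨ i = 8)) = true ∧
    (SixP2W.base.length = 7 ∧ SixP3W.base.length = 7 ∧ SuzP5W.base.length = 7) := by decide +kernel

theorem six_ws : (∀ i < SixP2W.base.length, SixP2W.ws.getD i [] = lifts.getD (SixP2W.base.getD i 0) []) ∧
    (∀ i < SixP3W.base.length, SixP3W.ws.getD i [] = lifts.getD (SixP3W.base.getD i 0) []) ∧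
    (∀ i < SuzP5W.base.length, SuzP5W.ws.getD i [] = lifts.getD (SuzP5W.base.getD i 0) []) := by
  refine ⟨fun i hi => ?_, fun i hi => ?_, fun i hi => ?_⟩
  all_goals
    first
      | simp only [SixP2W.ws] | simp only [SixP3W.ws] | simp only [SuzP5W.ws]
    rw [List.getD_append _ _ _ _ (by simpa using hi), List.getD_eq_getElem _ _ (by simpa using hi), List.getElem_map,
      List.getD_eq_getElem _ _ hi]

theorem six_cov_ker {Γ : Type u} [Group Γ] [Finite Γ] {σ : Γ →* cov 6 8} (hσ : Cfsg.IsStemExtension σ) :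
    σ.ker = ⊥ := by
  haveI : Finite Co0 := Nat.finite_of_card_ne_zero (by rw [card_co0]; norm_num)
  obtain ⟨π, -, -, hcard⟩ := six_cover
  have hb : ∀ l, l ∈ SixP2W.base ∨ l ∈ SixP3W.base ∨ l ∈ SuzP5W.base → lel l ∈ cov 6 8 := fun l hl =>
    lel_mem (of_decide_eq_true (List.all_eq_true.mp six_base.1 l (by simpa [or_assoc] using hl)))
  obtain ⟨l2, l3, l5⟩ := six_base.2
  refine Cfsg.Lib.Schur.ker_eq_bot_of_sylow hσ fun p hp => ?_
  haveI := hp
  by_cases h2 : p ^ 2 ∣ 503193600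
  · rcases prime_sq_six hp.out h2 with rfl | rfl | rfl
    · exact SixP2.cert.exists_sylow (not_dvd_cov (fun i hi => hb i (Or.inl hi)) six_ws.1 SixP2W.ws_ok SixP2W.len_ok
        (by rw [l2]; exact SixP2W.blocks) SixP2.cert (show Nat.Prime 2 by norm_num) SixP2.cert_ok SixP2W.pcid
        SixP2W.fid SixP2.pcw_ok SixP2.rows_ok SixP2.fus_ok SixP2.orbs SixP2.orbs_ok
        (by rw [hcard]; exact factorization_of (p := 2) (e := 13) (by norm_num) (by norm_num) (by norm_num) (by norm_num)) hσ)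
    · exact SixP3.cert.exists_sylow (not_dvd_cov (fun i hi => hb i (Or.inr (Or.inl hi))) six_ws.2.1 SixP3W.ws_ok
        SixP3W.len_ok (by rw [l3]; exact SixP3W.blocks) SixP3.cert (show Nat.Prime 3 by norm_num) SixP3.cert_ok
        SixP3W.pcid SixP3W.fid SixP3.pcw_ok SixP3.rows_ok SixP3.fus_ok SixP3.orbs SixP3.orbs_ok
        (by rw [hcard]; exact factorization_of (p := 3) (e := 3) (by norm_num) (by norm_num) (by norm_num) (by norm_num)) hσ)
    · exact SuzP5.cert.exists_sylow (not_dvd_cov (fun i hi => hb i (Or.inr (Or.inr hi))) six_ws.2.2 SuzP5W.ws_ok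
        SuzP5W.len_ok (by rw [l5]; exact SuzP5W.blocks) SuzP5.cert (show Nat.Prime 5 by norm_num) SuzP5.cert_ok
        SuzP5W.pcid SuzP5W.fid SuzP5.pcw_ok SuzP5.rows_ok SuzP5.fus_ok SuzP5.orbs SuzP5.orbs_ok
        (by rw [hcard]; exact factorization_of (p := 5) (e := 2) (by norm_num) (by norm_num) (by norm_num) (by norm_num)) hσ)
  · exact Cfsg.Lib.Schur.exists_sylow_cyclic hσ (by rwa [hcard])

theorem gtwo_four_multiplier {F : Type u} [Field F] [Fintype F] (hF : Fintype.card F = 4) :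
    Cfsg.HasCyclicSchurMultiplier ↥(Cfsg.Lie.chevG2.group F) 2 := by
  haveI : Finite Co0 := Nat.finite_of_card_ne_zero (by rw [card_co0]; norm_num)
  obtain ⟨π, hs, hk, -⟩ := six_cover
  let e0 : KQuad ≃+* F := FiniteField.ringEquivOfCardEq (K := KQuad) (K' := F)
    (by rw [Cfsg.Lib.PrimeGraph.KQuad.card_eq, hF])
  let e : GF4 ≃* ↥(Cfsg.Lie.chevG2.group F) :=
    (Subgroup.equivMapOfInjective _ (Matrix.GeneralLinearGroup.map (n := Cfsg.Lie.chevG2.Idx) e0.toRingHom)
      (fun a b h => Units.ext (Matrix.map_injective (f := e0.toRingHom) e0.injective (congrArg Units.val h)))).trans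
      (MulEquiv.subgroupCongr (Cfsg.Lib.Chev.Ok.map_group Cfsg.Lib.Chev.G2.ok e0))
  haveI : Finite GF4 := Nat.finite_of_card_ne_zero (by rw [card_GF4]; norm_num)
  haveI : Finite ↥(Cfsg.Lie.chevG2.group F) := Finite.of_equiv _ e.toEquiv
  let dn : ULift.{u} (cov 6 8) →* cov 6 8 := MulEquiv.ulift.toMonoidHom
  have hdn : Function.Bijective dn := MulEquiv.ulift.bijective
  let PR : ULift.{u} (cov 6 8) →* ↥(Cfsg.Lie.chevG2.group F) := (e.toMonoidHom.comp π).comp dn
  have hkP : PR.ker = π.ker.comap dn := by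
    ext x
    rw [MonoidHom.mem_ker, Subgroup.mem_comap, MonoidHom.mem_ker]
    exact map_eq_one_iff e e.injective
  have hperf : commutator (ULift.{u} (cov 6 8)) = ⊤ := by
    refine eq_top_iff.mpr fun x _ => ?_
    have hm : dn x ∈ (commutator (ULift.{u} (cov 6 8))).map dn := by
      rw [commutator_def, Subgroup.map_commutator, Subgroup.map_top_of_surjective dn hdn.2, ← commutator_def,
        perfect_eight]
      exact Subgroup.mem_top _
    obtain ⟨y, hy, hxy⟩ := hm
    exact hdn.1 hxy ▸ hy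
  have hcard : Nat.card PR.ker = 2 := by
    rw [hkP, show π.ker.comap dn = π.ker.map MulEquiv.ulift.symm.toMonoidHom from by
      ext x
      rw [Subgroup.mem_map_equiv]
      rfl, Subgroup.card_map_of_injective MulEquiv.ulift.symm.injective, hk, Nat.card_zpowers, order_eight]
  refine Cfsg.Lib.Schur.hasCyclicSchurMultiplier_of_cover PR
    ⟨(e.surjective.comp hs).comp hdn.2, fun x hx => ?_, by rw [hperf]; exact le_top⟩ hperf (fun Δ _ _ τ hτ => ?_)
    (isCyclic_of_prime_card (hp := ⟨Nat.prime_two⟩) hcard) hcard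
  · rw [hkP, Subgroup.mem_comap, hk] at hx
    refine Subgroup.mem_center_iff.mpr fun g => hdn.1 ?_
    rw [map_mul, map_mul]
    exact Subgroup.mem_center_iff.mp (scal_le_center (by norm_num) comm_ok.2 hx) (dn g)
  · have hk' : (dn.comp τ).ker = τ.ker := by
      ext z
      rw [MonoidHom.mem_ker, MonoidHom.mem_ker]
      exact map_eq_one_iff dn hdn.1
    have := six_cov_ker (σ := dn.comp τ) ⟨hdn.2.comp hτ.1, hk' ▸ hτ.2.1, hk' ▸ hτ.2.2⟩
    rwa [hk'] at this

end Cfsg.Lib.Leech.Mult.Suz
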